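import Groth.Agent.AbVar.K526.Fam
import Groth.Agent.Krr.H490.LocBasisPull
import Groth.Agent.Krr.H495.Rank
import Groth.Agent.Ega3B.SectExact
import Groth.Agent.CanPar.K795.FibreRank
import Groth.Agent.PerfA.CohSerre
import Groth.Agent.PerfC.PullRestrict

/-!
# Sections of translates

* `exists_open`: a nonzero section `s` of a finite locally free module on an integral scheme `Y` does not vanish at the
  points of a non-empty open subset `W`: `h^* s ≠ 0` for every `h : Z ⟶ Y` whose image meets `W`;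
* `main`: `J` an abelian variety over `k` algebraically closed (only: proper integral group scheme), `G` finite locally
  free on `J` with `H^0(J, G) ≠ 0`, `A` proper over `k` with a point and `j : A ⟶ J`; then `H^0(A, (j · y)^* G) ≠ 0` for
  EVERY translate of `j`.
-/

set_option autoImplicit false
universe u
open CategoryTheory CategoryTheory.Limits MonoidalCategory CartesianMonoidalCategory AlgebraicGeometry Opposite
open scoped MonObj
open Groth.Agent

namespace K532.TransSec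

section Open

open Groth.Agent.Sga67.Sec Groth.Agent.Sga67.LocBasis Groth.Agent.Krr.H490.LocBasisPull

variable {Y : Scheme.{u}}

/-- A nonzero section does not vanish on an open subset. -/
theorem exists_open [IsIntegral Y] {G : Y.Modules} (hG : FlatMod.IsFinLocFree G) (s : Sec G ⊤) (hs : s ≠ 0) :
    ∃ W : Y.Opens, (W : Set Y).Nonempty ∧ ∀ (Z : Scheme.{u}) (h : Z ⟶ Y) (z : Z), h z ∈ W →
      psec h G (U := ⊤) (V := ⊤) le_top s ≠ 0 := by
  classical
  have h1 : ∃ x : Y, ∀ (U : Y.Opens), x ∈ U → res G (le_top : U ≤ ⊤) s ≠ 0 := by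
    by_contra hcon
    push Not at hcon
    refine hs (eq_of_locally G fun x _ => ?_)
    obtain ⟨U, hx, e⟩ := hcon x
    exact ⟨U, le_top, hx, by rw [e, map_zero]⟩
  obtain ⟨x, hx⟩ := h1
  obtain ⟨U, hxU, b, hb⟩ := Krr.H495.Rank.exists_isLocBasis hG x
  obtain ⟨a, ha⟩ := (hb U le_rfl).2 (res G le_top s)
  have ha0 : a ≠ 0 := by
    rintro rfl
    rw [map_zero] at ha
    exact hx U hxU ha.symm
  obtain ⟨i, hi⟩ := Function.ne_iff.mp ha0
  have hi' : a i ≠ 0 := hi
  refine ⟨Y.basicOpen (a i), ?_, fun Z h z hz h0 => ?_⟩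
  · rw [Set.nonempty_iff_ne_empty]
    intro hempty
    apply hi'
    have h2 : Y.basicOpen (a i) = ⊥ := by
      ext1
      exact hempty
    exact (basicOpen_eq_bot_iff (a i)).mp h2
  · have hbz := isLocBasis_psec h G (U := U) (V := h ⁻¹ᵁ U) le_rfl hb
    have h2 : comb (fun l => psec h G (U := U) (V := h ⁻¹ᵁ U) le_rfl (b l)) (le_refl (h ⁻¹ᵁ U))
        (fun l => h.appLE U (h ⁻¹ᵁ U) le_rfl (a l)) = 0 := by
      have h3 : psec h G (U := U) (V := h ⁻¹ᵁ U) le_rfl (res G le_top s) = 0 := by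
        have h4 := VarietyB.PullSec.sec_res h G (U := ⊤) (V := ⊤) le_top (U' := U) (V' := h ⁻¹ᵁ U) le_rfl
          le_top le_top s
        refine h4.symm.trans ?_
        change res _ _ (psec h G (U := ⊤) (V := ⊤) le_top s) = 0
        rw [h0, map_zero]
      rw [← h3, ← ha, comb_apply, comb_apply]
      have h5 : psec h G (U := U) (V := h ⁻¹ᵁ U) le_rfl (∑ l, a l • res G le_rfl (b l)) =
          ∑ l, psec h G (U := U) (V := h ⁻¹ᵁ U) le_rfl (a l • res G le_rfl (b l)) :=
        map_sum (VarietyB.PullSec.sec h G (U := U) (V := h ⁻¹ᵁ U) le_rfl) _ _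
      rw [h5]
      refine Finset.sum_congr rfl fun l _ => ?_
      have h6 : psec h G (U := U) (V := h ⁻¹ᵁ U) le_rfl (a l • res G le_rfl (b l)) =
          h.appLE U (h ⁻¹ᵁ U) le_rfl (a l) • psec h G (U := U) (V := h ⁻¹ᵁ U) le_rfl (res G le_rfl (b l)) :=
        VarietyB.PullSec.sec_smul h G le_rfl _ _
      rw [h6, res_self, res_self]
    have h7 := congrFun ((hbz _ le_rfl).1 (h2.trans (map_zero _).symm)) i
    have h8 : h.appLE U (h ⁻¹ᵁ U) le_rfl (a i) = 0 := h7
    have h9 : z ∈ Z.basicOpen (h.app U (a i)) := by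
      rw [← Scheme.preimage_basicOpen]
      exact hz
    have h10 : h.app U (a i) = 0 := by
      rw [← h8, Scheme.Hom.app_eq_appLE]
    rw [h10, Scheme.basicOpen_zero] at h9
    exact h9

end Open

section Main

open K526 K526.Cut K526.PullM K518.Phi K526.Fam Groth.Agent.Fga.PicMon Groth.Agent.Fga Groth.Agent.Pic13.H11.Cls

variable {k : Type u} [Field k] [IsAlgClosed k] {A J : Over (Spec (CommRingCat.of k))} [GrpObj J]

/-- The family of the pull-backs along the translates of `j`. -/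
noncomputable def act (j : A ⟶ J) : A ⊗ J ⟶ J := (fst A J ≫ j) * snd A J

omit [IsAlgClosed k] in
theorem sl_act (j : A ⟶ J) (y : Pt J) : sl A y ≫ act j = j * (toUnit A ≫ y) := by
  rw [act, MonObj.comp_mul, lift_fst_assoc, Category.id_comp, lift_snd]

omit [IsAlgClosed k] in
theorem betti_slice [IsProper A.hom] [IsProper J.hom] {G : J.left.Modules} (hG : FlatMod.IsFinLocFree G)
    (j : A ⟶ J) (y : Pt J) (z : Spec (CommRingCat.of k)) :
    letI : A.left.Over (Spec (CommRingCat.of k)) := ⟨A.hom⟩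
    PerfAux.betti (snd A J).left ((Scheme.Modules.pullback (act j).left).obj G) (y.left z) 0 =
      Module.finrank k (Coh.HH A.left ((Scheme.Modules.pullback (j * (toUnit A ≫ y)).left).obj G) 0) := by
  letI : A.left.Over (Spec (CommRingCat.of k)) := ⟨A.hom⟩
  have hc : Coh.IsCoh ((Scheme.Modules.pullback (act j).left).obj G) :=
    PerfA.CohSerre.isCoh_of_isFinLocFree (PerfC.PullRestrict.isFinLocFree_pullback _ hG)
  rw [betti_pt hc y z 0]
  have h1 : pm (sl A y).left (mc ((Scheme.Modules.pullback (act j).left).obj G)) =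
      mc ((Scheme.Modules.pullback (j * (toUnit A ≫ y)).left).obj G) := by
    rw [← pm_mc (act j).left, ← pm_comp, ← Over.comp_left, sl_act, pm_mc]
  rw [h1]
  rfl

/-- Sections of all translates. -/
theorem main [IsProper A.hom] [IsProper J.hom] [IsIntegral J.left] (x₀ : Pt A) {G : J.left.Modules}
    (hG : FlatMod.IsFinLocFree G) (h0 : ¬ Subsingleton (Coh.HH J.left G 0)) (j : A ⟶ J) (y : Pt J) :
    ¬ Subsingleton (Coh.HH A.left ((Scheme.Modules.pullback (j * (toUnit A ≫ y)).left).obj G) 0) := by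
  letI : A.left.Over (Spec (CommRingCat.of k)) := ⟨A.hom⟩
  have : IsProper (A.left ↘ Spec (CommRingCat.of k)) := inferInstanceAs (IsProper A.hom)
  intro hsub
  obtain ⟨s, hs⟩ : ∃ s : Γ(G, ⊤), s ≠ 0 := by
    by_contra hcon
    push Not at hcon
    refine h0 ⟨fun a b => (Ega3B.SectExact.secEquiv G).injective ?_⟩
    rw [hcon (Ega3B.SectExact.secEquiv G a), hcon (Ega3B.SectExact.secEquiv G b)]
  obtain ⟨W, ⟨w, hw⟩, hW⟩ := exists_open hG s hs
  let 𝒢 := (Scheme.Modules.pullback (act j).left).obj G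
  have hf𝒢 : FlatMod.IsFinLocFree 𝒢 := PerfC.PullRestrict.isFinLocFree_pullback _ hG
  have hfl : Flat (snd A J).left := inferInstanceAs (Flat (pullback.snd A.hom J.hom))
  have hopen : IsOpen {z : J.left | PerfAux.betti (snd A J).left 𝒢 z 0 < 1} :=
    isOpen_betti (PerfA.CohSerre.isCoh_of_isFinLocFree hf𝒢)
      (K795.FibreRank.isFlatOver_of_isFinLocFree (snd A J).left hf𝒢) 0 1
  let z₀ : Spec (CommRingCat.of k) := IsLocalRing.closedPoint k
  have hy : y.left z₀ ∈ {z : J.left | PerfAux.betti (snd A J).left 𝒢 z 0 < 1} := by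
    change PerfAux.betti _ _ _ _ < 1
    rw [betti_slice hG j y z₀, Module.finrank_zero_of_subsingleton]
    exact one_pos
  let τ : J ⟶ J := (toUnit J ≫ x₀ ≫ j) * 𝟙 J
  have hτ : ∀ v : Pt J, v ≫ τ = (x₀ ≫ j) * v := by
    intro v
    rw [show τ = (toUnit J ≫ x₀ ≫ j) * 𝟙 J from rfl, MonObj.comp_mul, Category.comp_id, ← Category.assoc v,
      toUnit_unique (v ≫ toUnit J) (𝟙 _), Category.id_comp]
  obtain ⟨b, hbW, v₁, -, q, hq⟩ := (dense_pts (A := J)).inter_open_nonempty (W : Set J.left) W.2 ⟨w, hw⟩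
  have hne : ((τ.left ⁻¹ᵁ W : J.left.Opens) : Set J.left).Nonempty := by
    refine ⟨((x₀ ≫ j)⁻¹ * v₁).left q, ?_⟩
    change τ.left (((x₀ ≫ j)⁻¹ * v₁).left q) ∈ W
    have h1 : τ.left (((x₀ ≫ j)⁻¹ * v₁).left q) = v₁.left q := by
      rw [← Scheme.Hom.comp_apply, ← Over.comp_left, hτ, mul_inv_cancel_left]
    rw [h1, hq]
    exact hbW
  have hne2 : ({z : J.left | PerfAux.betti (snd A J).left 𝒢 z 0 < 1} ∩ (τ.left ⁻¹ᵁ W : J.left.Opens)).Nonempty :=
    nonempty_preirreducible_inter hopen (τ.left ⁻¹ᵁ W).2 ⟨_, hy⟩ hne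
  obtain ⟨c, hc, v₂, -, q₂, hq₂⟩ := (dense_pts (A := J)).inter_open_nonempty _ (hopen.inter (τ.left ⁻¹ᵁ W).2) hne2
  have h2 : v₂.left q₂ ∈ {z : J.left | PerfAux.betti (snd A J).left 𝒢 z 0 < 1} := hq₂ ▸ hc.1
  change PerfAux.betti _ _ _ _ < 1 at h2
  rw [betti_slice hG j v₂ q₂] at h2
  have hcoh : Coh.IsCoh ((Scheme.Modules.pullback (j * (toUnit A ≫ v₂)).left).obj G) :=
    PerfA.CohSerre.isCoh_of_isFinLocFree (PerfC.PullRestrict.isFinLocFree_pullback _ hG)
  have hfin := S0002.result k A.left _ hcoh 0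
  have h3 : Subsingleton (Coh.HH A.left ((Scheme.Modules.pullback (j * (toUnit A ≫ v₂)).left).obj G) 0) :=
    Module.finrank_zero_iff.mp (Nat.lt_one_iff.mp h2)
  have h4 : (j * (toUnit A ≫ v₂)).left (x₀.left q₂) ∈ W := by
    have h5 : (j * (toUnit A ≫ v₂)).left (x₀.left q₂) = τ.left (v₂.left q₂) := by
      rw [← Scheme.Hom.comp_apply, ← Scheme.Hom.comp_apply, ← Over.comp_left, ← Over.comp_left, hτ, MonObj.comp_mul,
        ← Category.assoc x₀ (toUnit A), toUnit_unique (x₀ ≫ toUnit A) (𝟙 _), Category.id_comp]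
    rw [h5, hq₂]
    exact hc.2
  have h6 := hW A.left (j * (toUnit A ≫ v₂)).left (x₀.left q₂) h4
  exact h6 ((Ega3B.SectExact.secEquiv _).symm.injective (Subsingleton.elim _ _))

end Main

end K532.TransSec
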