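import Groth.Agent.BunMod.K808.Verl
import Groth.Agent.BunMod.K532.TransSec
import Groth.Agent.AbVar.K523.ThetaPow

/-!
# Sections of the Fourier-Mukai transform of the dual of a Verlinde bundle (row S16934, on the Jacobian)

* `h0_ne` : `[N]^* G ≅ (L^a)^(+n)`, `n ≥ 1`, `a ≥ 1`, gives `H^0(J, G ⊗ α) ≠ 0` for every `α` algebraically equivalent
  to zero;
* `isAlgEquivZero_of_isPtBundle` : the line bundle of a point is algebraically equivalent to zero.
-/

set_option autoImplicit false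
universe u
open CategoryTheory CategoryTheory.Limits AlgebraicGeometry MonoidalCategory CartesianMonoidalCategory
open scoped MonObj
open Groth.Agent Groth.Agent.BunMod.K596
open Groth.Agent.Grpsch.PicGrp Groth.Agent.Grpsch.Cube Groth.Agent.Fdesc.LocGen K506.Transl

namespace K532.FmSec

noncomputable section

variable {k : Type u} [Field k] [IsAlgClosed k] {J : Over (Spec (CommRingCat.of k))} [GrpObj J] {L : J.left.Modules}
  {g : ℕ}

/-- Sections of `G ⊗ α` for `[N]^* G ≅ (L^a)^(+n)`. -/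
theorem h0_ne [CharZero k] (hJ : PPAV g J L) {N a n : ℕ} (hN : 1 ≤ N) (ha : 1 ≤ a) (hn : 1 ≤ n) {G : J.left.Modules}
    (hG : FlatMod.IsFinLocFree G)
    (e : Nonempty ((Scheme.Modules.pullback ((𝟙 J) ^ N : J ⟶ J).left).obj G ≅
      ∐ fun _ : Fin n => CohB1.tensorPow L a))
    (α : J.left.Modules) (hα : PicF.IsInvertible α) (hα0 : @Pic13.IsAlgEquivZero k _ J.left ⟨J.hom⟩ α) :
    ¬ Subsingleton (Coh.HH J.left (CohB1.tensorMod G α) 0) := by
  intro hsub
  letI : J.left.Over (Spec (CommRingCat.of k)) := ⟨J.hom⟩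
  have hpr := hJ.proper
  have hgi := hJ.gint
  have hpr' : IsProper (J.left ↘ Spec (CommRingCat.of k)) := hJ.proper
  obtain ⟨e⟩ := e
  have hα' : PicF.IsInvertible ((Scheme.Modules.pullback ((𝟙 J) ^ N : J ⟶ J).left).obj α) := isInvertible_pullback _ hα
  have hα'0 := K231.AvPic.algEquivZero_pullback hJ N α hα hα0
  have hB : CohB1.IsAmple (CohB1.tensorMod (CohB1.tensorPow L a)
      ((Scheme.Modules.pullback ((𝟙 J) ^ N : J ⟶ J).left).obj α)) :=
    K231.AvPic.isAmple_tensor (K231.Mul.isAmple_pow hJ ha) hα' ((K231.AvPic.isAlgEquivZero_iff_inv hα').1 hα'0)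
  obtain ⟨e2⟩ := K231.Mul.pullback_tensor_iso ((𝟙 J) ^ N : J ⟶ J).left (α := α) e
  have hlf : FlatMod.IsFinLocFree (CohB1.tensorMod G α) :=
    Sga67.LocBasis.isFinLocFree_tensorMod hG (Grpsch.CubeClosed.isFinLocFree_of_isInvertible hα)
  have hP0 : ∀ i, 0 < i → Subsingleton (Coh.HH J.left
      ((Scheme.Modules.pullback ((𝟙 J) ^ N : J ⟶ J).left).obj (CohB1.tensorMod G α)) i) := fun i hi =>
    Fga.HShift.subsingleton_of_iso e2.symm i (Fga.HShift.subsingleton_coproduct _ i fun _ =>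
      K808.Verl.vanish_of_ample hJ hB i hi)
  have hE0 : ∀ i, 0 < i → Subsingleton (Coh.HH J.left (CohB1.tensorMod G α) i) := fun i hi =>
    K231.Mul.subsingleton_of_pullback hJ hN _ hlf i (hP0 i hi)
  have h1 := K808.Verl.euler_pull hJ hN (PerfA.CohSerre.isCoh_of_isFinLocFree hlf)
  rw [VarietyA.EulerFinite.euler_eq_of_vanish k _ _ hE0, VarietyA.EulerFinite.euler_eq_of_vanish k _ _ hP0,
    Module.finrank_zero_of_subsingleton (M := Coh.HH J.left (CohB1.tensorMod G α) 0)] at h1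
  have hfin : Module.Finite k (Coh.HH J.left (CohB1.tensorMod (CohB1.tensorPow L a)
      ((Scheme.Modules.pullback ((𝟙 J) ^ N : J ⟶ J).left).obj α)) 0) :=
    S0002.result k J.left _ (PerfA.CohSerre.isCoh_of_isFinLocFree
      (Grpsch.CubeClosed.isFinLocFree_of_isInvertible hB.1)) 0
  have h2 := K700.HDim.fr_sigma_const k e2 0
  change Module.finrank k _ = n * Module.finrank k (Coh.HH J.left (CohB1.tensorMod (CohB1.tensorPow L a)
      ((Scheme.Modules.pullback ((𝟙 J) ^ N : J ⟶ J).left).obj α)) 0) at h2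
  have h3 := K523.ThetaPow.chi_pos g hJ.dim _ hB
  rw [K524.Chi.chi_mk, VarietyA.EulerFinite.euler_eq_of_vanish k _ _ fun i hi => K808.Verl.vanish_of_ample hJ hB i hi]
    at h3
  rw [h2] at h1
  have h4 : 0 < Module.finrank k (Coh.HH J.left (CohB1.tensorMod (CohB1.tensorPow L a)
      ((Scheme.Modules.pullback ((𝟙 J) ^ N : J ⟶ J).left).obj α)) 0) := by exact_mod_cast h3
  have h5 : n * Module.finrank k (Coh.HH J.left (CohB1.tensorMod (CohB1.tensorPow L a)
      ((Scheme.Modules.pullback ((𝟙 J) ^ N : J ⟶ J).left).obj α)) 0) = 0 := by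
    have h6 := h1
    push_cast at h6
    rw [mul_zero] at h6
    exact_mod_cast h6
  exact (Nat.mul_pos hn h4).ne' h5

/-- The line bundle of a point is algebraically equivalent to zero. -/
theorem isAlgEquivZero_of_isPtBundle (hJ : PPAV g J L) (ξ : 𝟙_ (Over (Spec (CommRingCat.of k))) ⟶ J)
    {P : J.left.Modules} (hP : Jac.IsPtBundle J L ξ P) : @Pic13.IsAlgEquivZero k _ J.left ⟨J.hom⟩ P := by
  have hpr := hJ.proper
  have hgi := hJ.gint
  obtain ⟨hPi, ⟨e⟩⟩ := hP
  have h1 : mk L hJ.inv * mk P hPi = pl (tr ξ) (mk L hJ.inv) := by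
    rw [mk_mul_mk, pull_mk _ hJ.inv]
    exact (mk_eq_iff _ (isInvertible_pullback _ hJ.inv)).2 ⟨e⟩
  have h2 : mk P hPi = phi (mk L hJ.inv) ξ := by
    rw [phi, ← h1, mul_comm (mk L hJ.inv), mul_inv_cancel_right]
  rw [K231.AvPic.isAlgEquivZero_iff_inv hPi, h2]
  exact phi_transl _ ξ

/-- Row S16934 on the Jacobian. -/
theorem main [CharZero k] (hJ : PPAV g J L) {N a n : ℕ} (hN : 1 ≤ N) (ha : 1 ≤ a) (hn : 1 ≤ n) {G : J.left.Modules}
    (hG : FlatMod.IsFinLocFree G)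
    (e : Nonempty ((Scheme.Modules.pullback ((𝟙 J) ^ N : J ⟶ J).left).obj G ≅
      ∐ fun _ : Fin n => CohB1.tensorPow L a)) (A : Over (Spec (CommRingCat.of k))) [IsProper A.hom]
    (x₀ : 𝟙_ (Over (Spec (CommRingCat.of k))) ⟶ A) (j : A ⟶ J) :
    ∃ (ξ₀ : 𝟙_ (Over (Spec (CommRingCat.of k))) ⟶ J) (U : J.left.Opens), (U : Set ↥J.left).Nonempty ∧
      ∀ (ξ : 𝟙_ (Over (Spec (CommRingCat.of k))) ⟶ J), Set.range ξ.left.base ⊆ (U : Set ↥J.left) →
        ∀ (Pξ : J.left.Modules), Jac.IsPtBundle J L ξ Pξ →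
          ¬ Subsingleton (Coh.HH A.left ((Scheme.Modules.pullback (j ≫ Jac.transl J ξ₀).left).obj
            (CohB1.tensorMod G Pξ)) 0) := by
  have hpr := hJ.proper
  have hgi := hJ.gint
  have hint : IsIntegral J.left := GeometricallyIntegral.isIntegral_of_subsingleton J.hom
  refine ⟨1, ⊤, ⟨(x₀ ≫ j).left (default : Spec (CommRingCat.of k)), trivial⟩, fun ξ _ Pξ hPξ => ?_⟩
  have h1 : j ≫ Jac.transl J (1 : 𝟙_ (Over (Spec (CommRingCat.of k))) ⟶ J) = j * (toUnit A ≫ 1) := by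
    rw [Jac.transl, MonObj.comp_mul, Category.comp_id, ← Category.assoc, comp_toUnit]
  rw [h1]
  exact TransSec.main x₀ (Sga67.LocBasis.isFinLocFree_tensorMod hG
    (Grpsch.CubeClosed.isFinLocFree_of_isInvertible hPξ.1))
    (h0_ne hJ hN ha hn hG e Pξ hPξ.1 (isAlgEquivZero_of_isPtBundle hJ ξ hPξ)) j 1

end

end K532.FmSec
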